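import Groth.Agent.L07.GenericFree
import Mathlib.RingTheory.Jacobson.Ring
import Mathlib.RingTheory.Localization.Ideal
import Mathlib.LinearAlgebra.FreeModule.Basic

/-!
# Proportionality of two elements read at closed points
-/

set_option autoImplicit false
set_option linter.style.haveILetI false

universe u

namespace Groth.L11.EllSimple

variable {R : Type u} [CommRing R] [IsDomain R] [IsNoetherianRing R] [IsJacobsonRing R]

/-- An element lying in all maximal ideals of a principal open is zero. -/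
theorem eq_zero_of_forall_maximal {g a : R} (hg : g ≠ 0)
    (h : ∀ m : Ideal R, m.IsMaximal → g ∉ m → a ∈ m) : a = 0 := by
  have h1 : g * a ∈ (⊥ : Ideal R).jacobson := by
    rw [Ideal.mem_jacobson_bot]
    intro y
    by_contra hu
    obtain ⟨m, hm, hmem⟩ := exists_max_ideal_of_mem_nonunits hu
    refine hm.ne_top ((Ideal.eq_top_iff_one _).2 ?_)
    have h2 : g * a ∈ m := by
      by_cases hgm : g ∈ m
      · exact m.mul_mem_right _ hgm
      · exact m.mul_mem_left _ (h m hm hgm)
    simpa using m.sub_mem hmem (m.mul_mem_right y h2)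
  rw [IsJacobsonRing.out' _ (Ideal.isPrime_bot.isRadical), Ideal.mem_bot] at h1
  exact (mul_eq_zero.1 h1).resolve_left hg

/-- Two vectors proportional at all closed points of a principal open are proportional. -/
theorem exists_proportional {ι : Type*} [Finite ι] (A : ι → Type u) [∀ i, CommRing (A i)]
    [∀ i, Algebra R (A i)] [∀ i, Algebra.FiniteType R (A i)]
    (N : ι → Type u) [∀ i, AddCommGroup (N i)] [∀ i, Module R (N i)] [∀ i, Module (A i) (N i)]
    [∀ i, IsScalarTower R (A i) (N i)] [∀ i, Module.Finite (A i) (N i)]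
    (v w : ∀ i, N i) {g : R} (hg : g ≠ 0)
    (h : ∀ m : Ideal R, m.IsMaximal → g ∉ m → ∃ c : R, ∀ i, w i - c • v i ∈ m • (⊤ : Submodule R (N i))) :
    ∃ a b : R, b ≠ 0 ∧ ∀ i, b • w i = a • v i := by
  classical
  haveI := Fintype.ofFinite ι
  choose F hF hfree using fun i => Groth.L07.GenFree.exists_freeAt (R := R) (S := A i) (N i)
  let f := ∏ i, F i
  have hf : f ≠ 0 := Finset.prod_ne_zero_iff.2 fun i _ => hF i
  let Rf := Localization.Away f
  let S := Submonoid.powers f
  let Nf : ι → Type u := fun i => LocalizedModule S (N i)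
  haveI : ∀ i, Module.Free Rf (Nf i) := fun i =>
    ((hfree i).mono (Finset.dvd_prod_of_mem F (Finset.mem_univ i))).free hf Rf (Nf i)
      (LocalizedModule.mkLinearMap S (N i))
  haveI : Module.Free Rf (∀ i, Nf i) := Module.Free.pi Rf Nf
  let B := Module.Free.chooseBasis Rf (∀ i, Nf i)
  let V : ∀ i, Nf i := fun i => LocalizedModule.mkLinearMap S (N i) (v i)
  let W : ∀ i, Nf i := fun i => LocalizedModule.mkLinearMap S (N i) (w i)
  -- membership after localisation
  have hloc : ∀ m : Ideal R, m.IsMaximal → f * g ∉ m → ∃ c : R,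
      ∀ e, B.repr W e - algebraMap R Rf c * B.repr V e ∈ m.map (algebraMap R Rf) := by
    intro m hm hfg
    obtain ⟨c, hc⟩ := h m hm fun hgm => hfg (m.mul_mem_left _ hgm)
    refine ⟨c, fun e => ?_⟩
    have h1 : ∀ x ∈ Submodule.pi Set.univ (fun i => m • (⊤ : Submodule R (N i))),
        B.repr (fun i => LocalizedModule.mkLinearMap S (N i) (x i)) e ∈ m.map (algebraMap R Rf) := by
      intro x hx
      have hrw : (fun i => LocalizedModule.mkLinearMap S (N i) (x i)) =
          ∑ i, Pi.single (M := Nf) i (LocalizedModule.mkLinearMap S (N i) (x i)) :=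
        (Finset.univ_sum_single _).symm
      rw [hrw, map_sum, Finsupp.finsetSum_apply]
      refine sum_mem fun i _ => ?_
      have hxi : x i ∈ m • (⊤ : Submodule R (N i)) := hx i trivial
      refine Submodule.smul_induction_on hxi (fun r hr y _ => ?_) (fun y z hy hz => ?_)
      · rw [LinearMap.map_smul, ← algebraMap_smul Rf, Pi.single_smul, map_smul, Finsupp.smul_apply]
        exact Ideal.mul_mem_right _ _ (Ideal.mem_map_of_mem _ hr)
      · rw [map_add, Pi.single_add, map_add, Finsupp.add_apply]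
        exact Ideal.add_mem _ hy hz
    have h2 := h1 (fun i => w i - c • v i) fun i _ => hc i
    have h3 : (fun i => LocalizedModule.mkLinearMap S (N i) (w i - c • v i)) = W - algebraMap R Rf c • V := by
      funext i
      rw [map_sub, LinearMap.map_smul, Pi.sub_apply, Pi.smul_apply, algebraMap_smul]
    rwa [h3, map_sub, map_smul, Finsupp.sub_apply, Finsupp.smul_apply, smul_eq_mul] at h2
  -- coordinates vanishing at all closed points
  have hzero : ∀ x : Rf, (∀ m : Ideal R, m.IsMaximal → f * g ∉ m → x ∈ m.map (algebraMap R Rf)) → x = 0 := by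
    intro x hx
    obtain ⟨⟨a, s⟩, hs⟩ := IsLocalization.surj S x
    suffices ha : a = 0 by
      rw [ha, map_zero] at hs
      exact (IsUnit.mul_left_eq_zero (IsLocalization.map_units Rf s)).1 hs
    refine eq_zero_of_forall_maximal (mul_ne_zero hf hg) fun m hm hfg => ?_
    have hd : Disjoint (S : Set R) m := Set.disjoint_left.2 fun r ⟨n, hn⟩ hrm => hfg (m.mul_mem_right _
      (hm.isPrime.mem_of_pow_mem n (show f ^ n ∈ m by rw [show f ^ n = r from hn]; exact hrm)))
    have h4 : algebraMap R Rf a ∈ m.map (algebraMap R Rf) := hs ▸ Ideal.mul_mem_right _ _ (hx m hm hfg)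
    rw [← IsLocalization.under_map_of_isPrime_disjoint S Rf hm.isPrime hd]
    exact h4
  -- proportionality of the coordinates
  have hprop : ∀ e e', B.repr W e' * B.repr V e = B.repr W e * B.repr V e' := fun e e' => by
    refine sub_eq_zero.1 (hzero _ fun m hm hfg => ?_)
    obtain ⟨c, hc⟩ := hloc m hm hfg
    have := Ideal.sub_mem _ (Ideal.mul_mem_right (B.repr V e) _ (hc e')) (Ideal.mul_mem_right (B.repr V e') _ (hc e))
    convert this using 1
    ring
  obtain ⟨p, q, hq, hpq⟩ : ∃ p q : Rf, q ≠ 0 ∧ q • W = p • V := by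
    by_cases hV : ∀ e, B.repr V e = 0
    · refine ⟨0, 1, ?_, B.repr.injective (Finsupp.ext fun e => ?_)⟩
      · haveI : Nontrivial Rf :=
          (IsLocalization.injective Rf (powers_le_nonZeroDivisors_of_noZeroDivisors hf)).nontrivial
        exact one_ne_zero
      · rw [map_smul, map_smul, Finsupp.smul_apply, Finsupp.smul_apply, smul_eq_mul, smul_eq_mul, one_mul, zero_mul]
        refine hzero _ fun m hm hfg => ?_
        obtain ⟨c, hc⟩ := hloc m hm hfg
        simpa [hV e] using hc e
    · obtain ⟨e, he⟩ := not_forall.1 hV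
      refine ⟨B.repr W e, B.repr V e, he, B.repr.injective (Finsupp.ext fun e' => ?_)⟩
      rw [map_smul, map_smul, Finsupp.smul_apply, Finsupp.smul_apply, smul_eq_mul, smul_eq_mul,
        mul_comm, hprop e e']
  obtain ⟨⟨⟨a, b⟩, s⟩, ha, hb⟩ : ∃ t : (R × R) × S, p * algebraMap R Rf t.2 = algebraMap R Rf t.1.1 ∧
      q * algebraMap R Rf t.2 = algebraMap R Rf t.1.2 := by
    obtain ⟨⟨a, s⟩, ha⟩ := IsLocalization.surj S p
    obtain ⟨⟨b, s'⟩, hb⟩ := IsLocalization.surj S q
    refine ⟨⟨⟨a * s', b * s⟩, s * s'⟩, ?_, ?_⟩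
    · rw [Submonoid.coe_mul, map_mul, map_mul, ← mul_assoc, ha]
    · rw [Submonoid.coe_mul, map_mul, map_mul, ← mul_assoc, mul_right_comm, hb]
  have hb0 : b ≠ 0 := by
    rintro rfl
    rw [map_zero] at hb
    exact hq ((IsUnit.mul_left_eq_zero (IsLocalization.map_units Rf s)).1 hb)
  have key : ∀ i, ∃ n : ℕ, f ^ n • (b • w i - a • v i) = 0 := by
    intro i
    have h5 : algebraMap R Rf b • W i = algebraMap R Rf a • V i := by
      have := congrArg (fun x : ∀ i, Nf i => algebraMap R Rf (s : R) • x i) hpq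
      simp only [Pi.smul_apply, smul_smul] at this
      rwa [mul_comm _ q, mul_comm _ p, ha, hb] at this
    rw [algebraMap_smul, algebraMap_smul, ← LinearMap.map_smul, ← LinearMap.map_smul,
      ← sub_eq_zero, ← map_sub] at h5
    obtain ⟨⟨_, n, rfl⟩, hn⟩ := (IsLocalizedModule.eq_zero_iff S (LocalizedModule.mkLinearMap S (N i))).1 h5
    exact ⟨n, hn⟩
  choose n hn using key
  let T := ∑ i, n i
  refine ⟨f ^ T * a, f ^ T * b, mul_ne_zero (pow_ne_zero _ hf) hb0, fun i => sub_eq_zero.1 ?_⟩
  obtain ⟨d, hd⟩ : ∃ d, T = d + n i :=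
    ⟨T - n i, (Nat.sub_add_cancel (Finset.single_le_sum (fun j _ => Nat.zero_le _) (Finset.mem_univ i))).symm⟩
  rw [← smul_smul, ← smul_smul, ← smul_sub, hd, pow_add, ← smul_smul, hn, smul_zero]

end Groth.L11.EllSimple
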