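import Groth.Agent.L06.DimLftJacobson
import Groth.Agent.L07.EquidimQF
import Groth.Agent.L07.DimJacobson
import Groth.Agent.L03.Euler.Dim
import Groth.Agent.L18.NegVanishField
import Groth.Agent.L22.SchemeDim
import Mathlib.RingTheory.RegularLocalRing.Defs

/-!
# Codimensions inside a closed subset of a scheme locally of finite type over a field
-/

set_option autoImplicit false
set_option linter.style.haveILetI false
set_option backward.isDefEq.respectTransparency false
set_option backward.isDefEq.respectTransparency.types false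

universe u

open CategoryTheory AlgebraicGeometry TopologicalSpace Topology

namespace Groth.L11.EllSimple

section Topology

variable {α : Type*} [TopologicalSpace α] [QuasiSober α] [T0Space α]

/-- The generizations of a point inside a closed set form a sober space. -/
theorem quasiSober_gens {T : Set α} (hT : IsClosed T) (z : α) :
    QuasiSober ↥{t : α | t ∈ T ∧ t ⤳ z} where
  sober {K} hK hKc := by
    let G := {t : α | t ∈ T ∧ t ⤳ z}
    have hi : IsIrreducible (closure (Subtype.val '' K : Set α)) :=
      (hK.image _ continuous_subtype_val.continuousOn).closure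
    obtain ⟨η, hη⟩ := QuasiSober.sober hi isClosed_closure
    obtain ⟨k, hk⟩ := hK.nonempty
    have h1 : η ⤳ (k : α) := hη.specializes (subset_closure ⟨k, hk, rfl⟩)
    have hηG : η ∈ G := ⟨closure_minimal (by rintro _ ⟨t, -, rfl⟩; exact t.2.1) hT hη.mem, h1.trans k.2.2⟩
    refine ⟨⟨η, hηG⟩, ?_⟩
    have hmem : (⟨η, hηG⟩ : G) ∈ K := by
      rw [← hKc.closure_eq, closure_subtype]
      exact hη.mem
    refine Set.Subset.antisymm (closure_minimal (Set.singleton_subset_iff.2 hmem) hKc) fun t ht => ?_
    rw [closure_subtype, Set.image_singleton, hη.def]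
    exact subset_closure ⟨t, ht, rfl⟩

/-- The dimension of the generizations is a coheight for the specialization order. -/
theorem dim_gens_eq {T : Set α} (hT : IsClosed T) {z : α} (hz : z ∈ T) :
    letI := specializationOrder ↥T
    topologicalKrullDim ↥{t : α | t ∈ T ∧ t ⤳ z} = (Order.coheight (⟨z, hz⟩ : ↥T) : WithBot ℕ∞) := by
  haveI := quasiSober_gens hT z
  letI := specializationOrder ↥T
  rw [Order.coheight_eq_krullDim_Ici]
  refine (@Order.krullDim_eq_of_orderIso _ _ _
    (specializationOrder ↥{t : α | t ∈ T ∧ t ⤳ z}).toPreorder irreducibleSetEquivPoints).trans ?_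
  refine @Order.krullDim_eq_of_orderIso _ _ (specializationOrder ↥{t : α | t ∈ T ∧ t ⤳ z}).toPreorder _
    { toFun := fun t => ⟨⟨t.1, t.2.1⟩, (subtype_specializes_iff _ _).2 t.2.2⟩
      invFun := fun t => ⟨t.1.1, t.1.2, (subtype_specializes_iff _ _).1 t.2⟩
      left_inv := fun _ => rfl
      right_inv := fun _ => rfl
      map_rel_iff' := fun {a b} => ?_ }
  show (⟨b.1, b.2.1⟩ : ↥T) ⤳ ⟨a.1, a.2.1⟩ ↔ b ⤳ a
  rw [subtype_specializes_iff, subtype_specializes_iff]

/-- Dimension of the closure plus codimension is at most the dimension. -/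
theorem dim_closure_add_gens_le {T : Set α} (hT : IsClosed T) {z : α} (hz : z ∈ T) :
    topologicalKrullDim (closure ({z} : Set α)) + topologicalKrullDim ↥{t : α | t ∈ T ∧ t ⤳ z} ≤
      topologicalKrullDim T := by
  haveI := hT.isClosedEmbedding_subtypeVal.quasiSober
  rw [dim_gens_eq hT hz]
  letI := specializationOrder ↥T
  haveI : Nonempty ↥T := ⟨⟨z, hz⟩⟩
  have h1 : topologicalKrullDim (closure ({z} : Set α)) ≤
      topologicalKrullDim (closure ({(⟨z, hz⟩ : ↥T)} : Set ↥T)) := by
    have h2 : closure ({z} : Set α) ⊆ Subtype.val '' closure ({(⟨z, hz⟩ : ↥T)} : Set ↥T) := by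
      rw [← hT.isClosedEmbedding_subtypeVal.closure_image_eq, Set.image_singleton]
    exact ((Groth.L22.SchemeDim.topologicalKrullDim_mono h2).trans
      (Groth.L22.SchemeDim.topologicalKrullDim_eq_of_isEmbedding
        (IsEmbedding.subtypeVal.comp IsEmbedding.subtypeVal) (Set.range_comp Subtype.val Subtype.val ▸ by
          rw [Subtype.range_coe])).le)
  rw [Groth.L07.EquidimQF.dim_closure_eq_height (⟨z, hz⟩ : ↥T)] at h1
  refine (add_le_add_left h1 _).trans ?_
  show _ ≤ Order.krullDim (IrreducibleCloseds ↥T)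
  rw [Order.krullDim_eq_of_orderIso (irreducibleSetEquivPoints (α := ↥T)),
    Order.krullDim_eq_iSup_height_add_coheight_of_nonempty, ← WithBot.coe_add]
  exact WithBot.coe_le_coe.2 (le_iSup (fun a : ↥T => Order.height a + Order.coheight a) ⟨z, hz⟩)

end Topology

variable {k : Type u} [Field k] {X : Scheme.{u}} (g : X ⟶ Spec (CommRingCat.of k)) [LocallyOfFiniteType g]

include g in
/-- Dimension is additive along specializations. -/
theorem dim_closure_le_add {ξ x : X} (h : ξ ⤳ x) :
    topologicalKrullDim ↥(closure ({ξ} : Set X)) ≤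
      topologicalKrullDim ↥{t : X | ξ ⤳ t ∧ t ⤳ x} + topologicalKrullDim ↥(closure ({x} : Set X)) := by
  haveI hf : IsLocallyNoetherian (Spec (CommRingCat.of k)) := inferInstance
  have h2 : ∀ s : Spec (CommRingCat.of k), CAlg.IsUniversallyCatenary ((Spec (CommRingCat.of k)).presheaf.stalk s) := by
    intro s
    have hF := Groth.L18.NegVanish.isField_stalk_specField (k := k) s
    haveI : IsRegularLocalRing ((Spec (CommRingCat.of k)).presheaf.stalk s) := by
      refine IsRegularLocalRing.of_spanFinrank_maximalIdeal_le ((Spec (CommRingCat.of k)).presheaf.stalk s) ?_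
      rw [IsLocalRing.isField_iff_maximalIdeal_eq.1 hF, Submodule.spanFinrank_bot]
      exact ringKrullDim_nonneg_of_nontrivial
    exact Groth.L06.DimLftJacobson.isUniversallyCatenary_of_regularLocal _
  have h3 : ∀ S' ∈ irreducibleComponents (Spec (CommRingCat.of k) : Type u), ∀ s ∈ S', IsClosed ({s} : Set (Spec (CommRingCat.of k))) →
      topologicalKrullDim (↥S' : Type u) = topologicalKrullDim ↥{t : Spec (CommRingCat.of k) | t ∈ S' ∧ t ⤳ s} := by
    intro S' _ s hs _
    have : {t : Spec (CommRingCat.of k) | t ∈ S' ∧ t ⤳ s} = S' :=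
      Set.ext fun t => ⟨fun h => h.1, fun h => ⟨h, specializes_of_eq (@Subsingleton.elim (PrimeSpectrum k) _ _ _)⟩⟩
    rw [this]
  rw [Groth.L07.DimJacobson.dim_interval x ξ h, Groth.L06.DimLftJacobson.dim_closure_add h2 h3 g h]

include g in
/-- A lower bound for the codimension in a closed set containing a point of dimension `d` above. -/
theorem le_dim_gens {T : Set X} (hT : IsClosed T) {ξ x : X} (hξ : ξ ∈ T) (h : ξ ⤳ x) {d m : ℕ}
    (hd : (d : WithBot ℕ∞) ≤ topologicalKrullDim ↥(closure ({ξ} : Set X)))
    (hx : topologicalKrullDim ↥(closure ({x} : Set X)) + (m : WithBot ℕ∞) ≤ (d : WithBot ℕ∞)) :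
    (m : WithBot ℕ∞) ≤ topologicalKrullDim ↥{t : X | t ∈ T ∧ t ⤳ x} := by
  have h1 : topologicalKrullDim ↥{t : X | ξ ⤳ t ∧ t ⤳ x} ≤ topologicalKrullDim ↥{t : X | t ∈ T ∧ t ⤳ x} :=
    Groth.L22.SchemeDim.topologicalKrullDim_mono fun t ht => ⟨ht.1.mem_closed hT hξ, ht.2⟩
  have h2 := hd.trans ((dim_closure_le_add g h).trans (add_le_add_left h1 _))
  have h0 := Groth.L03.Euler.zero_le_topologicalKrullDim
    (S := closure ({x} : Set X)) ⟨x, subset_closure rfl⟩
  revert h2 hx h0
  generalize topologicalKrullDim ↥(closure ({x} : Set X)) = c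
  generalize topologicalKrullDim ↥{t : X | t ∈ T ∧ t ⤳ x} = a
  intro hx h2 h0
  induction c using WithBot.recBotCoe with
  | bot => simp at h0
  | coe c =>
    induction c using ENat.recTopCoe with
    | top =>
      rw [show (m : WithBot ℕ∞) = ((m : ℕ∞) : WithBot ℕ∞) from rfl, ← WithBot.coe_add, top_add] at hx
      exact absurd (WithBot.coe_le_coe.1 (hx : ((⊤ : ℕ∞) : WithBot ℕ∞) ≤ ((d : ℕ∞) : WithBot ℕ∞))) (by simp)
    | coe c =>
      induction a using WithBot.recBotCoe with
      | bot => simp at h2
      | coe a =>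
        induction a using ENat.recTopCoe with
        | top => exact WithBot.coe_le_coe.2 le_top
        | coe a =>
          have hx' : c + m ≤ d := by exact_mod_cast hx
          have h2' : d ≤ a + c := by exact_mod_cast h2
          exact_mod_cast (show m ≤ a by omega)

end Groth.L11.EllSimple
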