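import Groth.Agent.L22.FLI.Pull
import Groth.Prelude.Def_Coh
import Mathlib.AlgebraicGeometry.Fiber
import Mathlib.AlgebraicGeometry.ResidueField
import Mathlib.AlgebraicGeometry.Morphisms.ClosedImmersion

/-!
# Sections over the fibre of a point in an affine open of the base
-/

set_option autoImplicit false
set_option linter.style.haveILetI false
set_option backward.isDefEq.respectTransparency false
set_option backward.isDefEq.respectTransparency.types false

universe u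

open CategoryTheory CategoryTheory.Limits AlgebraicGeometry TopologicalSpace Opposite

noncomputable section

namespace Groth.L11.EllSimple

open Groth.L18.Frame (rs pull pull_smul)

variable {Y S : Scheme.{u}} (f : Y ⟶ S) {V : S.Opens}

/-- The inclusion of a residue field, on sections. -/
theorem appLE_fromSpecResidueField (s : S) (hs : s ∈ V) (e : ⊤ ≤ S.fromSpecResidueField s ⁻¹ᵁ V) :
    (S.fromSpecResidueField s).appLE V ⊤ e = S.evaluation V s hs ≫ (Scheme.ΓSpecIso (S.residueField s)).inv := by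
  have e' : (⊤ : (Spec (S.presheaf.stalk s)).Opens) ≤ S.fromSpecStalk s ⁻¹ᵁ V := by
    intro p _
    have : S.fromSpecStalk s p ∈ Set.range (S.fromSpecStalk s) := ⟨p, rfl⟩
    rw [Scheme.range_fromSpecStalk] at this
    exact this.mem_open V.2 hs
  have h1 : (S.fromSpecResidueField s).appLE V ⊤ e =
      (S.fromSpecStalk s).appLE V ⊤ e' ≫ (Spec.map (S.residue s)).appLE ⊤ ⊤ le_top :=
    (Scheme.Hom.appLE_comp_appLE _ _ _ _ _ _ _).symm
  have h2 : (S.fromSpecStalk s).appLE V ⊤ e' = S.presheaf.germ V s hs ≫ (Scheme.ΓSpecIso (S.presheaf.stalk s)).inv := by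
    rw [Scheme.Hom.appLE, Scheme.fromSpecStalk_app hs, Category.assoc, Category.assoc, ← Functor.map_comp,
      Subsingleton.elim ((homOfLE le_top).op ≫ (homOfLE e').op) (𝟙 _)]
    erw [(Spec (S.presheaf.stalk s)).presheaf.map_id, Category.comp_id]
  have h3 : (Spec.map (S.residue s)).appLE ⊤ ⊤ le_top = (Spec.map (S.residue s)).appTop :=
    (Scheme.Hom.app_eq_appLE _).symm
  rw [h1, h2, h3, Category.assoc, ← Scheme.ΓSpecIso_inv_naturality]
  rfl

/-- Functions of the base act on the fibre through their values. -/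
theorem app_fiberι (s : S) (hs : s ∈ V) (W : Y.Opens) (e : W ≤ f ⁻¹ᵁ V) (a : Γ(S, V)) :
    (f.fiberι s).app W (f.appLE V W e a) =
      (f.fiber s).presheaf.map (homOfLE (le_top : f.fiberι s ⁻¹ᵁ W ≤ ⊤)).op
        (Coh.toGlobal (f.fiberToSpecResidueField s) (S.evaluation V s hs a)) := by
  have eP : f.fiberι s ⁻¹ᵁ W ≤ f.fiberι s ⁻¹ᵁ (f ⁻¹ᵁ V) := fun x hx => e hx
  have eT : (⊤ : (Spec (S.residueField s)).Opens) ≤ S.fromSpecResidueField s ⁻¹ᵁ V := fun p _ => by
    show S.fromSpecResidueField s p ∈ V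
    rw [Scheme.fromSpecResidueField_apply]; exact hs
  have key : ∀ (g g' : f.fiber s ⟶ S) (h : g = g') (e₁ : f.fiberι s ⁻¹ᵁ W ≤ g ⁻¹ᵁ V) (e₂ : f.fiberι s ⁻¹ᵁ W ≤ g' ⁻¹ᵁ V),
      g.appLE V _ e₁ = g'.appLE V _ e₂ := by
    rintro g _ rfl _ _; rfl
  have h1 : f.appLE V W e ≫ (f.fiberι s).app W = (f.fiberι s ≫ f).appLE V (f.fiberι s ⁻¹ᵁ W) eP := by
    rw [Scheme.Hom.app_eq_appLE, Scheme.Hom.appLE_comp_appLE]
  have h2 : (f.fiberToSpecResidueField s ≫ S.fromSpecResidueField s).appLE V (f.fiberι s ⁻¹ᵁ W)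
      (fun x _ => eT (x := f.fiberToSpecResidueField s x) trivial) =
      S.evaluation V s hs ≫ (Scheme.ΓSpecIso (S.residueField s)).inv ≫
        (f.fiberToSpecResidueField s).appLE ⊤ (f.fiberι s ⁻¹ᵁ W) le_top := by
    rw [← Scheme.Hom.appLE_comp_appLE _ _ V ⊤ _ eT le_top, appLE_fromSpecResidueField s hs eT, Category.assoc]
  have h3 := (h1.trans (key _ _ pullback.condition eP _)).trans h2
  exact ConcreteCategory.congr_hom h3 a

variable (hV : IsAffineOpen V)

/-- Evaluation at a closed point of an affine open is surjective. -/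
theorem evaluation_surjective (s : S) (hs : s ∈ V) (hm : (hV.primeIdealOf ⟨s, hs⟩).asIdeal.IsMaximal) :
    Function.Surjective (S.evaluation V s hs) := by
  intro c
  obtain ⟨σ, rfl⟩ := Ideal.Quotient.mk_surjective (I := IsLocalRing.maximalIdeal (S.presheaf.stalk s)) c
  letI := S.presheaf.algebra_section_stalk ⟨s, hs⟩
  haveI := hV.isLocalization_stalk ⟨s, hs⟩
  obtain ⟨⟨a, t⟩, hat⟩ := IsLocalization.surj (hV.primeIdealOf ⟨s, hs⟩).asIdeal.primeCompl σ
  obtain ⟨t', ht'⟩ : ∃ t', (t : Γ(S, V)) * t' - 1 ∈ (hV.primeIdealOf ⟨s, hs⟩).asIdeal := by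
    obtain ⟨t', i, hi, h⟩ := hm.exists_inv t.2
    exact ⟨t', by rw [show (t : Γ(S, V)) * t' - 1 = -i by rw [← h]; ring]; exact neg_mem hi⟩
  refine ⟨a * t', ?_⟩
  show Ideal.Quotient.mk _ (algebraMap Γ(S, V) (S.presheaf.stalk s) (a * t')) = _
  rw [Ideal.Quotient.eq, map_mul, show algebraMap Γ(S, V) (S.presheaf.stalk s) a =
    σ * algebraMap Γ(S, V) (S.presheaf.stalk s) t from hat.symm, mul_assoc, ← map_mul, ← mul_sub_one]
  refine Ideal.mul_mem_left _ _ ?_
  rw [← map_one (algebraMap Γ(S, V) (S.presheaf.stalk s)), ← map_sub]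
  exact (IsLocalization.AtPrime.to_map_mem_maximal_iff (S.presheaf.stalk s)
    (hV.primeIdealOf ⟨s, hs⟩).asIdeal _).2 ht'

/-- The kernel of evaluation. -/
theorem evaluation_eq_zero_iff (s : S) (hs : s ∈ V) (a : Γ(S, V)) :
    S.evaluation V s hs a = 0 ↔ a ∈ (hV.primeIdealOf ⟨s, hs⟩).asIdeal := by
  letI := S.presheaf.algebra_section_stalk ⟨s, hs⟩
  haveI := hV.isLocalization_stalk ⟨s, hs⟩
  exact (Ideal.Quotient.eq_zero_iff_mem).trans
    (IsLocalization.AtPrime.to_map_mem_maximal_iff (S.presheaf.stalk s) (hV.primeIdealOf ⟨s, hs⟩).asIdeal a)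

/-- Functions vanishing on the fibre over a closed point lie in the extension of its ideal. -/
theorem ker_app_le {W : Y.Opens} (hW : IsAffineOpen W) (e : W ≤ f ⁻¹ᵁ V) (s : S) (hs : s ∈ V)
    (hm : (hV.primeIdealOf ⟨s, hs⟩).asIdeal.IsMaximal) :
    RingHom.ker ((f.fiberι s).app W).hom ≤ (hV.primeIdealOf ⟨s, hs⟩).asIdeal.map (f.appLE V W e).hom := by
  let m := (hV.primeIdealOf ⟨s, hs⟩).asIdeal
  let ψ : Γ(S, V) →+* Γ(Y, W) ⧸ m.map (f.appLE V W e).hom :=
    (Ideal.Quotient.mk _).comp (f.appLE V W e).hom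
  have hle : RingHom.ker (S.evaluation V s hs).hom ≤ RingHom.ker ψ := fun a ha => by
    have := (evaluation_eq_zero_iff hV s hs a).1 ha
    exact Ideal.Quotient.eq_zero_iff_mem.2 (Ideal.mem_map_of_mem _ this)
  let χ : CommRingCat.of (S.residueField s) ⟶ CommRingCat.of (Γ(Y, W) ⧸ m.map (f.appLE V W e).hom) :=
    CommRingCat.ofHom (RingHom.liftOfSurjective (S.evaluation V s hs).hom
      (evaluation_surjective hV s hs hm) ⟨ψ, hle⟩)
  have hχ : S.evaluation V s hs ≫ χ = f.appLE V W e ≫ CommRingCat.ofHom (Ideal.Quotient.mk _) :=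
    CommRingCat.hom_ext (RingHom.liftOfRightInverse_comp _ _ _ _)
  let mk : Γ(Y, W) ⟶ CommRingCat.of (Γ(Y, W) ⧸ m.map (f.appLE V W e).hom) :=
    CommRingCat.ofHom (Ideal.Quotient.mk _)
  let q : Spec (CommRingCat.of (Γ(Y, W) ⧸ m.map (f.appLE V W e).hom)) ⟶ Y := Spec.map mk ≫ hW.fromSpec
  have hev : Spec.map (S.evaluation V s hs) ≫ hV.fromSpec = S.fromSpecResidueField s := by
    rw [show S.evaluation V s hs = S.presheaf.germ V s hs ≫ S.residue s from rfl, Spec.map_comp, Category.assoc]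
    exact congrArg (Spec.map (S.residue s) ≫ ·) (hV.fromSpecStalk_eq_fromSpecStalk hs)
  have hq : q ≫ f = Spec.map χ ≫ S.fromSpecResidueField s := by
    rw [← hev, ← Spec.map_comp_assoc, hχ, Spec.map_comp_assoc, IsAffineOpen.SpecMap_appLE_fromSpec f hV hW e,
      Category.assoc]
  intro a ha
  let l : Spec (CommRingCat.of (Γ(Y, W) ⧸ m.map (f.appLE V W e).hom)) ⟶ f.fiber s :=
    pullback.lift q (Spec.map χ) hq
  have h1 : l ≫ f.fiberι s = q := pullback.lift_fst _ _ _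
  have e1 : (⊤ : (Spec (CommRingCat.of (Γ(Y, W) ⧸ m.map (f.appLE V W e).hom))).Opens) ≤
      l ⁻¹ᵁ (f.fiberι s ⁻¹ᵁ W) := fun p _ => by
    show f.fiberι s (l p) ∈ W
    rw [← Scheme.Hom.comp_apply, h1, Scheme.Hom.comp_apply]
    exact hW.range_fromSpec.le ⟨_, rfl⟩
  have e2 : (⊤ : (Spec Γ(Y, W)).Opens) ≤ hW.fromSpec ⁻¹ᵁ W := hW.fromSpec_preimage_self.ge
  have key : ∀ (g g' : Spec (CommRingCat.of (Γ(Y, W) ⧸ m.map (f.appLE V W e).hom)) ⟶ Y) (h : g = g')
      (e₁ : ⊤ ≤ g ⁻¹ᵁ W) (e₂ : ⊤ ≤ g' ⁻¹ᵁ W), g.appLE W ⊤ e₁ = g'.appLE W ⊤ e₂ := by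
    rintro g _ rfl _ _; rfl
  have h2 : (f.fiberι s).app W ≫ (l).appLE (f.fiberι s ⁻¹ᵁ W) ⊤ e1 =
      mk ≫ (Scheme.ΓSpecIso _).inv := by
    have h4 : hW.fromSpec.appLE W ⊤ e2 = (Scheme.ΓSpecIso Γ(Y, W)).inv := by
      rw [Scheme.Hom.appLE, hW.fromSpec_app_self, Category.assoc, ← Functor.map_comp,
        Subsingleton.elim ((eqToHom hW.fromSpec_preimage_self).op ≫ (homOfLE e2).op) (𝟙 _)]
      erw [(Spec Γ(Y, W)).presheaf.map_id, Category.comp_id]
    rw [Scheme.Hom.app_eq_appLE, Scheme.Hom.appLE_comp_appLE, key _ _ h1 _ (fun p _ => by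
      show q p ∈ W
      exact hW.range_fromSpec.le ⟨_, rfl⟩)]
    show (Spec.map mk ≫ hW.fromSpec).appLE W ⊤ _ = _
    have h7 : (Spec.map mk).appLE ⊤ ⊤ le_top = (Spec.map mk).appTop := (Scheme.Hom.app_eq_appLE _).symm
    rw [← Scheme.Hom.appLE_comp_appLE _ _ W ⊤ ⊤ e2 le_top, h4, h7]
    exact (Scheme.ΓSpecIso_inv_naturality mk).symm
  have h5 := ConcreteCategory.congr_hom h2 a
  rw [CategoryTheory.comp_apply, CategoryTheory.comp_apply, show (f.fiberι s).app W a = 0 from ha, map_zero] at h5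
  have h6 : mk a = 0 := (ConcreteCategory.bijective_of_isIso (Scheme.ΓSpecIso
    (CommRingCat.of (Γ(Y, W) ⧸ m.map (f.appLE V W e).hom))).inv).1 (h5.symm.trans (map_zero _).symm)
  exact Ideal.Quotient.eq_zero_iff_mem.1 h6

/-- A section vanishing on the fibre over a closed point is in the ideal times the sections. -/
theorem mem_of_pull_eq_zero (M : Y.Modules) [Coh.IsQCoh M] {W : Y.Opens} (hW : IsAffineOpen W) (e : W ≤ f ⁻¹ᵁ V)
    (s : S) (hs : s ∈ V) (hsc : IsClosed ({s} : Set S)) (hm : (hV.primeIdealOf ⟨s, hs⟩).asIdeal.IsMaximal)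
    (y : Γ(M, W)) (hy : pull (f.fiberι s) M W y = 0) :
    letI := Module.compHom Γ(M, W) (f.appLE V W e).hom
    y ∈ (hV.primeIdealOf ⟨s, hs⟩).asIdeal • (⊤ : Submodule Γ(S, V) Γ(M, W)) := by
  letI := Module.compHom Γ(M, W) (f.appLE V W e).hom
  haveI : IsClosedImmersion (S.fromSpecResidueField s) := isClosed_singleton_iff_isClosedImmersion.mp hsc
  haveI : IsClosedImmersion (f.fiberι s) :=
    MorphismProperty.pullback_fst (P := @IsClosedImmersion) f _ inferInstance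
  have h := (Groth.L22.FLI.pull_eq_zero_iff (f.fiberι s) M hW y).1 hy
  refine Submodule.smul_induction_on h (fun a ha z _ => ?_) (fun _ _ => add_mem)
  have ha' := ker_app_le f hV hW e s hs hm ha
  suffices ∀ z : Γ(M, W), a • z ∈ (hV.primeIdealOf ⟨s, hs⟩).asIdeal • (⊤ : Submodule Γ(S, V) Γ(M, W)) from this z
  refine Submodule.span_induction (p := fun a _ => ∀ z : Γ(M, W),
    a • z ∈ (hV.primeIdealOf ⟨s, hs⟩).asIdeal • (⊤ : Submodule Γ(S, V) Γ(M, W))) ?_ ?_ ?_ ?_ ha'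
  · rintro _ ⟨r, hr, rfl⟩ z
    exact Submodule.smul_mem_smul (show r ∈ (hV.primeIdealOf ⟨s, hs⟩).asIdeal from hr) (Submodule.mem_top (x := z))
  · intro z; rw [zero_smul]; exact zero_mem _
  · intro a b _ _ ha hb z; rw [add_smul]; exact add_mem (ha z) (hb z)
  · intro r a _ ha z; rw [smul_eq_mul, mul_comm, mul_smul]; exact ha _

end Groth.L11.EllSimple
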