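import Groth.Agent.L11.EllSimple.Scalar
import Mathlib.RingTheory.Jacobson.Ring
import Mathlib.RingTheory.Finiteness.Basic

/-!
# Proportionality at the closed points gives a scalar at the generic point
-/

set_option autoImplicit false
set_option linter.style.haveILetI false
set_option backward.isDefEq.respectTransparency false
set_option backward.isDefEq.respectTransparency.types false

universe u

open CategoryTheory CategoryTheory.Limits AlgebraicGeometry TopologicalSpace Opposite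

noncomputable section

namespace Groth.L11.EllSimple

open Groth.L18.Frame (rs ro pull pull_smul)
open Groth.L03.ShStab.Scalar (sc)

variable {Y S : Scheme.{u}} [IsIntegral S] (f : Y ⟶ S) [LocallyOfFiniteType f] [AlgebraicGeometry.IsNoetherian Y]

/-- The endomorphism of the generic fibre given by a correspondence which is proportional to the
identity at the closed points of a principal open is a scalar. -/
theorem exists_eq_sc {V : S.Opens} (hV : IsAffineOpen V) [IsDomain Γ(S, V)] [IsNoetherianRing Γ(S, V)]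
    [IsJacobsonRing Γ(S, V)] (hη : genericPoint S ∈ V) {E G : Y.Modules} (hE : Coh.IsCoh E) (hG : Coh.IsCoh G)
    (p₁ p₂ : G ⟶ E) {W : Y.Opens} [IsIso ((Scheme.Modules.restrictFunctor W.ι).map p₁)]
    (U : (f.fiber (genericPoint S)).Opens) (hU : ∀ u : ↥(U : Scheme.{u}), (U.ι ≫ f.fiberι (genericPoint S)) u ∈ W)
    (φ : (Scheme.Modules.pullback (U.ι ≫ f.fiberι (genericPoint S))).obj E ⟶
      (Scheme.Modules.pullback (U.ι ≫ f.fiberι (genericPoint S))).obj E)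
    (hφ : (Scheme.Modules.pullback (U.ι ≫ f.fiberι (genericPoint S))).map p₁ ≫ φ =
      (Scheme.Modules.pullback (U.ι ≫ f.fiberι (genericPoint S))).map p₂)
    {g₀ : Γ(S, V)} (hg₀ : g₀ ≠ 0)
    (hprop : ∀ m : Ideal Γ(S, V), m.IsMaximal → g₀ ∉ m → ∃ r : Γ(S, V),
      ∀ (O : Y.Opens) (_ : IsAffineOpen O) (_ : O ≤ W) (e : O ≤ f ⁻¹ᵁ V) (y : Γ(G, O)),
        letI := Module.compHom Γ(E, O) (f.appLE V O e).hom
        p₂.app O y - r • p₁.app O y ∈ m • (⊤ : Submodule Γ(S, V) Γ(E, O))) :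
    ∃ c : ↥(S.residueField (genericPoint S)),
      φ = sc _ (U.ι.appTop (Coh.toGlobal (f.fiberToSpecResidueField (genericPoint S)) c)) := by
  classical
  let η := genericPoint S
  haveI : Coh.IsQCoh E := hE.1
  obtain ⟨T, hT⟩ := (NoetherianSpace.isCompact ((W ⊓ f ⁻¹ᵁ V : Y.Opens) : Set Y)).elim_finite_subcover
    (fun O : {O : Y.affineOpens // (O : Y.Opens) ≤ W ⊓ f ⁻¹ᵁ V} => ((O.1 : Y.Opens) : Set Y))
    (fun O => (O.1 : Y.Opens).2) fun x hx => by
      obtain ⟨_, ⟨O, hO, rfl⟩, hxO, hOle⟩ := Y.isBasis_affineOpens.exists_subset_of_mem_open hx (W ⊓ f ⁻¹ᵁ V).2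
      exact Set.mem_iUnion.2 ⟨⟨⟨O, hO⟩, hOle⟩, hxO⟩
  let O : T → Y.Opens := fun t => t.1.1.1
  have hOa : ∀ t, IsAffineOpen (O t) := fun t => t.1.1.2
  have hOW : ∀ t, O t ≤ W := fun t => t.1.2.trans inf_le_left
  have hOV : ∀ t, O t ≤ f ⁻¹ᵁ V := fun t => t.1.2.trans inf_le_right
  have hgen : ∀ t, ∃ s : Finset Γ(G, O t), Submodule.span Γ(Y, O t) (s : Set Γ(G, O t)) = ⊤ := fun t =>
    (Groth.L20.ModStalk.finite_sections _ hG (hOa t)).fg_top
  choose gen hgen using hgen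
  let ι := Σ t : T, {y // y ∈ gen t}
  letI : ∀ i : ι, Algebra Γ(S, V) Γ(Y, O i.1) := fun i => (f.appLE V (O i.1) (hOV i.1)).hom.toAlgebra
  letI : ∀ i : ι, Module Γ(S, V) Γ(E, O i.1) := fun i => Module.compHom Γ(E, O i.1) (f.appLE V (O i.1) (hOV i.1)).hom
  haveI : ∀ i : ι, IsScalarTower Γ(S, V) Γ(Y, O i.1) Γ(E, O i.1) := fun i =>
    IsScalarTower.of_algebraMap_smul fun _ _ => rfl
  haveI : ∀ i : ι, Algebra.FiniteType Γ(S, V) Γ(Y, O i.1) := fun i =>
    f.finiteType_appLE hV (hOa i.1) (hOV i.1)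
  haveI : ∀ i : ι, Module.Finite Γ(Y, O i.1) Γ(E, O i.1) := fun i =>
    Groth.L20.ModStalk.finite_sections _ hE (hOa i.1)
  obtain ⟨a, b, hb, hab⟩ := exists_proportional (R := Γ(S, V)) (fun i : ι => Γ(Y, O i.1))
    (fun i : ι => Γ(E, O i.1)) (fun i => p₁.app (O i.1) i.2.1) (fun i => p₂.app (O i.1) i.2.1) hg₀
    fun m hm hg => by
      obtain ⟨r, hr⟩ := hprop m hm hg
      exact ⟨r, fun i => hr (O i.1) (hOa i.1) (hOW i.1) (hOV i.1) i.2.1⟩
  -- the relation holds for all sections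
  have hall : ∀ (t : T) (y : Γ(G, O t)),
      f.appLE V (O t) (hOV t) b • p₂.app (O t) y = f.appLE V (O t) (hOV t) a • p₁.app (O t) y := by
    intro t y
    have hy : y ∈ Submodule.span Γ(Y, O t) (gen t : Set Γ(G, O t)) := hgen t ▸ Submodule.mem_top
    induction hy using Submodule.span_induction with
    | mem z hz => exact hab ⟨t, z, hz⟩
    | zero => rw [map_zero, map_zero, smul_zero, smul_zero]
    | add z w _ _ hz hw => rw [map_add, map_add, smul_add, smul_add, hz, hw]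
    | smul r z _ hz =>
      rw [Scheme.Modules.Hom.app_smul, Scheme.Modules.Hom.app_smul, smul_comm _ r, smul_comm _ r, hz]
  let ev := S.evaluation V η hη
  have hevb : ev b ≠ 0 := by
    rw [Scheme.evaluation_ne_zero_iff_mem_basicOpen]
    refine ((genericPoint_spec S).mem_open_set_iff (S.basicOpen b).2).2 ?_
    rw [Set.univ_inter, Set.nonempty_iff_ne_empty]
    exact fun h => hb ((basicOpen_eq_bot_iff b).1 (Opens.ext h))
  refine ⟨ev a / ev b, eq_sc_of_pull _ E φ _ fun u => ?_⟩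
  have hu : (U.ι ≫ f.fiberι η) u ∈ ((W ⊓ f ⁻¹ᵁ V : Y.Opens) : Set Y) := by
    refine ⟨hU u, ?_⟩
    show f ((f.fiberι η) (U.ι u)) ∈ V
    have : f ((f.fiberι η) (U.ι u)) = η :=
      Set.mem_singleton_iff.1 ((f.range_fiberι η).le ⟨U.ι u, rfl⟩)
    rw [this]; exact hη
  obtain ⟨t, htT, hut⟩ := Set.mem_iUnion₂.1 (hT hu)
  let h := U.ι ≫ f.fiberι η
  refine ⟨O ⟨t, htT⟩, hOa ⟨t, htT⟩, hut, fun m => ?_⟩
  obtain ⟨y, rfl⟩ := (app_bijective_of_isIso_restrict p₁ (hOW ⟨t, htT⟩)).2 m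
  let ρ : ↥(S.residueField η) →+* Γ((U : Scheme.{u}), h ⁻¹ᵁ O ⟨t, htT⟩) :=
    ((U : Scheme.{u}).presheaf.map (homOfLE (le_top : h ⁻¹ᵁ O ⟨t, htT⟩ ≤ ⊤)).op).hom.comp
      (U.ι.appTop.hom.comp (Coh.toGlobal (f.fiberToSpecResidueField η)))
  have hρ : ∀ r : Γ(S, V), h.app (O ⟨t, htT⟩) (f.appLE V (O ⟨t, htT⟩) (hOV ⟨t, htT⟩) r) = ρ (ev r) := by
    intro r
    show U.ι.app _ ((f.fiberι η).app (O ⟨t, htT⟩) (f.appLE V (O ⟨t, htT⟩) (hOV ⟨t, htT⟩) r)) = _
    rw [app_fiberι f η hη _ (hOV ⟨t, htT⟩) r]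
    exact ConcreteCategory.congr_hom (U.ι.naturality (homOfLE le_top).op) _
  have h1 : φ.app (h ⁻¹ᵁ O ⟨t, htT⟩) (pull h E _ (p₁.app _ y)) = pull h E _ (p₂.app _ y) := by
    rw [← Groth.L17.BC.PullSec.map_pull, ← Groth.L17.BC.PullSec.map_pull]
    exact congr($(congrArg (fun ψ => Scheme.Modules.Hom.app ψ (h ⁻¹ᵁ O ⟨t, htT⟩)) hφ) (pull h G _ y))
  refine h1.trans ?_
  show _ = ρ (ev a / ev b) • pull h E _ (p₁.app _ y)
  have h2 : ρ (ev b) • pull h E _ (p₂.app _ y) = ρ (ev a) • pull h E _ (p₁.app _ y) := by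
    rw [← hρ, ← hρ, ← pull_smul, ← pull_smul, hall ⟨t, htT⟩ y]
  calc pull h E _ (p₂.app _ y) = ρ (ev b)⁻¹ • (ρ (ev b) • pull h E _ (p₂.app _ y)) := by
        rw [smul_smul, ← map_mul, inv_mul_cancel₀ hevb, map_one, one_smul]
    _ = ρ (ev a / ev b) • pull h E _ (p₁.app _ y) := by
        rw [h2, smul_smul, ← map_mul, div_eq_inv_mul]

end Groth.L11.EllSimple
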