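import Groth.Agent.L11.EllSimple.Generic
import Groth.Agent.L11.EllSimple.Dim
import Groth.Agent.L11.Lemma179.Ass
import Groth.Agent.L06.FibreDimCons
import Groth.Agent.L02.ConsP.Simple
import Groth.Prelude.Def_ShStab
import Mathlib.AlgebraicGeometry.IdealSheaf.Subscheme

/-!
# Simplicity in small codimension passes to the generic fibre
-/

set_option autoImplicit false
set_option linter.style.haveILetI false
set_option maxHeartbeats 1000000
set_option backward.isDefEq.respectTransparency false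
set_option backward.isDefEq.respectTransparency.types false

universe u

open CategoryTheory CategoryTheory.Limits AlgebraicGeometry TopologicalSpace Opposite

noncomputable section

namespace Groth.L11.EllSimple

open Groth.L18.Frame (rs ro pull pull_smul)
open Groth.L03.ShStab.Scalar (sc)

variable {Y S : Scheme.{u}} (f : Y ⟶ S)

/-- The dimension of a closed set in the fibres is constant near the generic point. -/
theorem exists_open_dim_fibre [IsIntegral S] [IsLocallyNoetherian S] [CompactSpace S] [IsLocallyNoetherian Y]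
    [LocallyOfFiniteType f] [QuasiCompact f] {T : Set Y} (hT : IsClosed T) :
    ∃ S₁ : S.Opens, genericPoint S ∈ S₁ ∧ ∀ s ∈ S₁,
      topologicalKrullDim ↥(f.fiberι s ⁻¹' T) = topologicalKrullDim ↥(f.fiberι (genericPoint S) ⁻¹' T) := by
  haveI : AlgebraicGeometry.IsNoetherian S := {}
  let I : Y.IdealSheafData := Scheme.IdealSheafData.vanishingIdeal ⟨T, hT⟩
  have hI : (I.support : Set Y) = T := by
    rw [Scheme.IdealSheafData.coe_support_vanishingIdeal]
    rfl
  let u := I.subschemeι ≫ f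
  haveI : LocallyOfFinitePresentation u := inferInstance
  have hdim : ∀ s : S, topologicalKrullDim ↥(u.fiber s) = topologicalKrullDim ↥(f.fiberι s ⁻¹' T) := by
    intro s
    have h1 : topologicalKrullDim ↥(T ∩ f ⁻¹' {s}) = topologicalKrullDim ↥(u.fiber s) := by
      refine Groth.L22.SchemeDim.topologicalKrullDim_eq_of_isEmbedding
        (I.subschemeι.isEmbedding.comp (u.fiberι s).isEmbedding) ?_
      rw [Set.range_comp, u.range_fiberι s, show (u ⁻¹' {s}) = I.subschemeι ⁻¹' (f ⁻¹' {s}) from rfl,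
        Set.image_preimage_eq_inter_range, Scheme.IdealSheafData.range_subschemeι, hI, Set.inter_comm]
    have h2 : topologicalKrullDim ↥(T ∩ f ⁻¹' {s}) = topologicalKrullDim ↥(f.fiberι s ⁻¹' T) := by
      refine Groth.L22.SchemeDim.topologicalKrullDim_eq_of_isEmbedding
        ((f.fiberι s).isEmbedding.comp Topology.IsEmbedding.subtypeVal) ?_
      rw [Set.range_comp, Subtype.range_coe, Set.image_preimage_eq_inter_range, f.range_fiberι]
    exact h1.symm.trans h2
  have hc := Groth.L06.FibreDimCons.isLocallyConstructible_fibre_eq u (topologicalKrullDim ↥(u.fiber (genericPoint S)))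
  refine ⟨⟨_, isOpen_interior⟩, L02.ConsP.mem_interior_of_ind
    (L02.ConsP.isIndConstructible_of_isLocallyConstructible hc) rfl, fun s hs => ?_⟩
  rw [← hdim, ← hdim]
  have h3 := interior_subset hs
  exact h3

theorem main (k : Type u) [Field k]
    (q : S ⟶ Spec (CommRingCat.of k)) [IsIntegral S] [LocallyOfFiniteType q] [CompactSpace S]
    [IsProper f] (d ℓ : ℕ)
    (E : Y.Modules) (hE : Coh.IsCoh E)
    (hfib : ∀ s : S, ¬ IsZero (CohIII.fiberMod f E s) ∧
      ShStab.IsPure (Over.mk (f.fiberToSpecResidueField s)).left (CohIII.fiberMod f E s) d)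
    (hsimple : ∀ s : S, IsClosed ({s} : Set S) →
      (∀ U : (f.fiber s).Opens,
        (∀ z : ↥(f.fiber s), z ∉ U → z ∈ CohB1.support (CohIII.fiberMod f E s) →
          ((ℓ : WithBot ℕ∞) + 1 ≤ topologicalKrullDim {t : ↥(f.fiber s) // t ∈ CohB1.support (CohIII.fiberMod f E s) ∧ t ⤳ z})) →
        ¬ IsZero ((Scheme.Modules.restrictFunctor U.ι).obj (CohIII.fiberMod f E s)) ∧
        ∀ φ : (Scheme.Modules.restrictFunctor U.ι).obj (CohIII.fiberMod f E s) ⟶ (Scheme.Modules.restrictFunctor U.ι).obj (CohIII.fiberMod f E s),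
          ∃ c : ↥(S.residueField s), ∀ (V : (U : Scheme.{u}).Opens) (x : (CohIII.fiberMod f E s).val.obj (Opposite.op (U.ι ''ᵁ V))),
            (φ.app V) ((Scheme.Modules.restrictAppIso U.ι (CohIII.fiberMod f E s) V).inv x) =
              (Scheme.Modules.restrictAppIso U.ι (CohIII.fiberMod f E s) V).inv
                (((f.fiber s).ringCatSheaf.obj.map (homOfLE (le_top : U.ι ''ᵁ V ≤ ⊤)).op
                  (Coh.toGlobal (f.fiberToSpecResidueField s) c)) • x)))
    (U : (f.fiber (genericPoint S)).Opens)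
    (hcod : ∀ z : ↥(f.fiber (genericPoint S)), z ∉ U → z ∈ CohB1.support (CohIII.fiberMod f E (genericPoint S)) →
      ((ℓ : WithBot ℕ∞) + 1 ≤ topologicalKrullDim
        {t : ↥(f.fiber (genericPoint S)) // t ∈ CohB1.support (CohIII.fiberMod f E (genericPoint S)) ∧ t ⤳ z})) :
    ¬ IsZero ((Scheme.Modules.restrictFunctor U.ι).obj (CohIII.fiberMod f E (genericPoint S))) ∧
      ∀ φ : (Scheme.Modules.restrictFunctor U.ι).obj (CohIII.fiberMod f E (genericPoint S)) ⟶
          (Scheme.Modules.restrictFunctor U.ι).obj (CohIII.fiberMod f E (genericPoint S)),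
        ∃ c : ↥(S.residueField (genericPoint S)), ∀ (V : (U : Scheme.{u}).Opens)
          (x : (CohIII.fiberMod f E (genericPoint S)).val.obj (Opposite.op (U.ι ''ᵁ V))),
          (φ.app V) ((Scheme.Modules.restrictAppIso U.ι (CohIII.fiberMod f E (genericPoint S)) V).inv x) =
            (Scheme.Modules.restrictAppIso U.ι (CohIII.fiberMod f E (genericPoint S)) V).inv
              (((f.fiber (genericPoint S)).ringCatSheaf.obj.map (homOfLE (le_top : U.ι ''ᵁ V ≤ ⊤)).op
                (Coh.toGlobal (f.fiberToSpecResidueField (genericPoint S)) c)) • x) := by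
  classical
  haveI : IsLocallyNoetherian S := LocallyOfFiniteType.isLocallyNoetherian q
  haveI : AlgebraicGeometry.IsNoetherian S := {}
  haveI : IsLocallyNoetherian Y := LocallyOfFiniteType.isLocallyNoetherian f
  haveI : CompactSpace Y := QuasiCompact.compactSpace_of_compactSpace f
  haveI : AlgebraicGeometry.IsNoetherian Y := {}
  haveI : JacobsonSpace S := LocallyOfFiniteType.jacobsonSpace q
  haveI : Coh.IsQCoh E := hE.1
  have hft : ∀ s : S, LocallyOfFiniteType (f.fiberToSpecResidueField s) := fun s =>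
    MorphismProperty.pullback_snd (P := @LocallyOfFiniteType) _ _ inferInstance
  have hNoe : ∀ s : S, AlgebraicGeometry.IsNoetherian (f.fiber s) := fun s => by
    haveI := hft s
    haveI : IsLocallyNoetherian (f.fiber s) := LocallyOfFiniteType.isLocallyNoetherian (f.fiberToSpecResidueField s)
    haveI : QuasiCompact (f.fiberToSpecResidueField s) := MorphismProperty.pullback_snd (P := @QuasiCompact) _ _ inferInstance
    haveI : CompactSpace (f.fiber s) := QuasiCompact.compactSpace_of_compactSpace (f.fiberToSpecResidueField s)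
    exact {}
  have hcohF : ∀ s : S, haveI := hNoe s; Coh.IsCoh (CohIII.fiberMod f E s) := fun s =>
    haveI := hNoe s
    Groth.L16.AffineBC.isCoh_pullback (f.fiberι s) hE
  have hsupp : ∀ s : S, CohB1.support (CohIII.fiberMod f E s) = f.fiberι s ⁻¹' CohB1.support E := fun s =>
    Groth.L19.SupportPullback.support_pullback (f.fiberι s) E hE.2
  have hass : ∀ s : S, Groth.L11.Lemma179.AssDim (CohIII.fiberMod f E s) d := fun s =>
    haveI := hNoe s
    Groth.L11.Lemma179.assDim_of_isPure (hcohF s) (hfib s).2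
  let η := genericPoint S
  haveI := hNoe η
  haveI : Flat (f.fiberι η) := Groth.L18.FlatClosureMod.flat_fiberι f
  haveI := Groth.L18.FlatClosureMod.quasiCompact_fiberι f
  haveI := Groth.L18.FlatClosureMod.quasiSeparated_fiberι f
  haveI : Coh.IsQCoh (CohIII.fiberMod f E η) := (hcohF η).1
  have hsc : ∀ z : f.fiber η, z ∈ CohB1.support (CohIII.fiberMod f E η) →
      topologicalKrullDim ↥(closure ({z} : Set (f.fiber η))) ≤ (d : WithBot ℕ∞) := fun z hz =>
    (Groth.L03.Euler.topologicalKrullDim_set_mono (closure_minimal (Set.singleton_subset_iff.2 hz)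
      (Groth.L16.CohSupport.isClosed_support _ (hcohF η).2))).trans
      (Groth.L11.Lemma179.dim_le_of_assDim (hcohF η) (hass η))
  -- points of the support outside the open
  have hout : ∀ z : f.fiber η, z ∉ U → z ∈ CohB1.support (CohIII.fiberMod f E η) →
      topologicalKrullDim ↥(closure ({z} : Set (f.fiber η))) + ((ℓ + 1 : ℕ) : WithBot ℕ∞) ≤ (d : WithBot ℕ∞) := by
    intro z hzU hz
    have h1 : ((ℓ + 1 : ℕ) : WithBot ℕ∞) ≤
        topologicalKrullDim ↥{t : f.fiber η | t ∈ CohB1.support (CohIII.fiberMod f E η) ∧ t ⤳ z} := by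
      push_cast
      exact hcod z hzU hz
    exact ((add_le_add_right h1 _).trans (dim_closure_add_gens_le
      (Groth.L16.CohSupport.isClosed_support _ (hcohF η).2) hz)).trans
      (Groth.L11.Lemma179.dim_le_of_assDim (hcohF η) (hass η))
  refine ⟨fun h0 => ?_, fun φ => ?_⟩
  · -- the restriction is nonzero
    obtain ⟨z, hz⟩ : (CohB1.support (CohIII.fiberMod f E η)).Nonempty := by
      rw [Set.nonempty_iff_ne_empty]
      exact fun h' => (hfib η).1 ((Groth.L21.Mod.isZero_iff_support_eq_empty _).2 h')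
    obtain ⟨a, ha, haz⟩ := Groth.L07.AssTensor.exists_ass_specializes (CohIII.fiberMod f E η) hz
    have has := Groth.L11.Lemma179.mem_support_of_isAssPoint ha
    have haU : a ∈ U := by
      by_contra haU
      have := hout a haU has
      rw [hass η a ha] at this
      have h' : d + (ℓ + 1) ≤ d := by exact_mod_cast this
      omega
    have h2 : IsZero ((Scheme.Modules.pullback U.ι).obj (CohIII.fiberMod f E η)) :=
      h0.of_iso ((Scheme.Modules.restrictFunctorIsoPullback U.ι).app _).symm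
    rw [Groth.L21.Mod.isZero_iff_support_eq_empty, Groth.L19.SupportPullback.support_pullback U.ι _ (hcohF η).2] at h2
    exact (Set.eq_empty_iff_forall_notMem.1 h2) ⟨a, haU⟩ has
  -- endomorphisms
  let h : (U : Scheme.{u}) ⟶ Y := U.ι ≫ f.fiberι η
  let e : (Scheme.Modules.restrictFunctor U.ι).obj (CohIII.fiberMod f E η) ≅ (Scheme.Modules.pullback h).obj E :=
    (Scheme.Modules.restrictFunctorIsoPullback U.ι).app _ ≪≫ (Scheme.Modules.pullbackComp U.ι (f.fiberι η)).app E
  obtain ⟨G, p₁, p₂, W, hG, hW, hp, hkey⟩ := exists_correspondence h hE (e.inv ≫ φ ≫ e.hom)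
  haveI := hp
  let T : Set Y := CohB1.support E ∩ (W : Set Y)ᶜ
  have hT : IsClosed T := (Groth.L16.CohSupport.isClosed_support _ hE.2).inter W.2.isClosed_compl
  obtain ⟨S₁, hηS₁, hS₁⟩ := exists_open_dim_fibre f hT
  obtain ⟨_, ⟨V, hV, rfl⟩, hηV, -⟩ := S.isBasis_affineOpens.exists_subset_of_mem_open (Set.mem_univ η) isOpen_univ
  haveI : Nonempty V := ⟨⟨η, hηV⟩⟩
  haveI : IsNoetherianRing Γ(S, V) := IsLocallyNoetherian.component_noetherian ⟨V, hV⟩
  haveI : IsJacobsonRing Γ(S, V) := by
    let ρ : k →+* Γ(S, V) := (q.appLE ⊤ V le_top).hom.comp (Scheme.ΓSpecIso (CommRingCat.of k)).inv.hom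
    letI : Algebra k Γ(S, V) := ρ.toAlgebra
    haveI : Algebra.FiniteType k Γ(S, V) := (q.finiteType_appLE (isAffineOpen_top _) hV le_top).comp
      (RingHom.FiniteType.of_surjective _ (Scheme.ΓSpecIso (CommRingCat.of k)).symm.commRingCatIsoToRingEquiv.surjective)
    exact isJacobsonRing_of_finiteType (A := k)
  obtain ⟨g₀, hηg, hg⟩ : ∃ g₀ : Γ(S, V), η ∈ S.basicOpen g₀ ∧ S.basicOpen g₀ ≤ S₁ := by
    obtain ⟨g₀, hle, hm⟩ := hV.exists_basicOpen_le (V := S₁ ⊓ V) ⟨η, hηS₁, hηV⟩ hηV
    exact ⟨g₀, hm, hle.trans inf_le_left⟩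
  have hg₀ : g₀ ≠ 0 := by
    rintro rfl
    rw [Scheme.basicOpen_zero] at hηg
    exact hηg
  have hprop : ∀ m : Ideal Γ(S, V), m.IsMaximal → g₀ ∉ m → ∃ r : Γ(S, V),
      ∀ (O : Y.Opens) (_ : IsAffineOpen O) (_ : O ≤ W) (e : O ≤ f ⁻¹ᵁ V) (y : Γ(G, O)),
        letI := Module.compHom Γ(E, O) (f.appLE V O e).hom
        p₂.app O y - r • p₁.app O y ∈ m • (⊤ : Submodule Γ(S, V) Γ(E, O)) := by
    intro m hm hgm
    let pt : PrimeSpectrum Γ(S, V) := ⟨m, hm.isPrime⟩
    let s : S := hV.fromSpec pt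
    have hs : s ∈ V := hV.range_fromSpec.le ⟨pt, rfl⟩
    have hpt : hV.primeIdealOf ⟨s, hs⟩ = pt :=
      hV.fromSpec.isOpenEmbedding.injective (hV.fromSpec_primeIdealOf ⟨s, hs⟩)
    have hm' : (hV.primeIdealOf ⟨s, hs⟩).asIdeal.IsMaximal := by rw [hpt]; exact hm
    have hsc' : IsClosed ({s} : Set S) := by
      have h1 : pt ∈ closedPoints (PrimeSpectrum Γ(S, V)) :=
        (PrimeSpectrum.isClosed_singleton_iff_isMaximal pt).2 hm
      exact ((Set.ext_iff.1 (hV.fromSpec.isOpenEmbedding.preimage_closedPoints) pt).2 h1 :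
        pt ∈ hV.fromSpec ⁻¹' closedPoints S)
    have hsS₁ : s ∈ S₁ := hg (by
      have : pt ∈ hV.fromSpec ⁻¹ᵁ S.basicOpen g₀ := by rw [hV.fromSpec_preimage_basicOpen]; exact hgm
      exact this)
    have hr := exists_proportional_fibre f hV p₁ p₂ (W := W) s hs hsc' hm' fun ψ =>
      (hsimple s hsc' (f.fiberι s ⁻¹ᵁ W) fun z hzW hz => ?_).2 ψ
    · rw [hpt] at hr
      exact hr
    haveI := hNoe s
    haveI := hft s
    haveI : Coh.IsQCoh (CohIII.fiberMod f E s) := (hcohF s).1
    obtain ⟨a, ha, haz⟩ := Groth.L07.AssTensor.exists_ass_specializes (CohIII.fiberMod f E s) hz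
    show (ℓ : WithBot ℕ∞) + 1 ≤
      topologicalKrullDim ↥{t : f.fiber s | t ∈ CohB1.support (CohIII.fiberMod f E s) ∧ t ⤳ z}
    have := le_dim_gens (f.fiberToSpecResidueField s) (Groth.L16.CohSupport.isClosed_support _ (hcohF s).2)
      (Groth.L11.Lemma179.mem_support_of_isAssPoint ha) haz (d := d) (m := ℓ + 1) (hass s a ha).ge ?_
    · push_cast at this
      exact this
    have hzT : z ∈ f.fiberι s ⁻¹' T := ⟨(hsupp s).le hz, hzW⟩
    -- the bound at the generic point
    have hcl : closure ({z} : Set (f.fiber s)) ⊆ f.fiberι s ⁻¹' T :=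
      closure_minimal (Set.singleton_subset_iff.2 hzT) (hT.preimage (f.fiberι s).continuous)
    have h2 := (Groth.L03.Euler.topologicalKrullDim_set_mono hcl).trans (hS₁ s hsS₁).le
    refine (add_le_add_left h2 _).trans ?_
    have hTη : ∀ w : f.fiber η, w ∈ f.fiberι η ⁻¹' T → w ∈ CohB1.support (CohIII.fiberMod f E η) ∧ w ∉ U := by
      intro w hw
      refine ⟨(hsupp η).ge hw.1, fun hwU => hw.2 ?_⟩
      exact hW ⟨w, hwU⟩
    have h0 : 0 ≤ topologicalKrullDim ↥(f.fiberι η ⁻¹' T) :=
      (Groth.L03.Euler.zero_le_topologicalKrullDim ⟨z, subset_closure (Set.mem_singleton z)⟩).trans h2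
    have hle : topologicalKrullDim ↥(f.fiberι η ⁻¹' T) ≤ (d : WithBot ℕ∞) :=
      (Groth.L03.Euler.topologicalKrullDim_set_mono fun w hw => (hTη w hw).1).trans
        (Groth.L11.Lemma179.dim_le_of_assDim (hcohF η) (hass η))
    obtain ⟨n, hn⟩ := Groth.L06.JacobsonDim.exists_nat_of_le h0 hle
    obtain ⟨w, hw, hwn⟩ := Groth.L03.Euler.exists_point_dim_closure_ge
      (hT.preimage (f.fiberι η).continuous) hn.ge
    rw [hn]
    exact (add_le_add_left hwn _).trans (hout w (hTη w hw).2 (hTη w hw).1)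
  obtain ⟨c, hc⟩ := exists_eq_sc f hV hηV hE hG p₁ p₂ U hW _ hkey hg₀ hprop
  refine ⟨c, fun V' x => ?_⟩
  have hφ : φ = sc _ (U.ι.appTop (Coh.toGlobal (f.fiberToSpecResidueField η) c)) := by
    have h1 : φ = e.hom ≫ (e.inv ≫ φ ≫ e.hom) ≫ e.inv := by
      simp only [Category.assoc, Iso.hom_inv_id_assoc, Iso.hom_inv_id, Category.comp_id]
    rw [h1, hc]
    refine (Category.assoc _ _ _).symm.trans ?_
    refine (congrArg (· ≫ e.inv) (Groth.L03.ShStab.Rank2.comp_sc e.hom _)).trans ?_
    rw [Category.assoc, Iso.hom_inv_id, Category.comp_id]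
  rw [hφ]
  refine (Groth.L03.ShStab.Rank2.sc_app _ _ V' _).trans ?_
  refine Eq.trans ?_ (Scheme.Modules.smul_restrictAppIso_inv_apply U.ι _ V' _ x).symm
  refine congrArg (· • _) ?_
  let a : Γ(f.fiber η, ⊤) := Coh.toGlobal (f.fiberToSpecResidueField η) c
  show (U : Scheme.{u}).presheaf.map (homOfLE (le_top : V' ≤ ⊤)).op (U.ι.app ⊤ a) =
    (U.ι.appIso V').hom ((f.fiber η).presheaf.map (homOfLE (le_top : U.ι ''ᵁ V' ≤ ⊤)).op a)
  have h2 : U.ι.app ⊤ ≫ (U : Scheme.{u}).presheaf.map (homOfLE (fun _ _ => trivial : V' ≤ U.ι ⁻¹ᵁ ⊤)).op =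
      (f.fiber η).presheaf.map (homOfLE (le_top : U.ι ''ᵁ V' ≤ ⊤)).op ≫ (U.ι.appIso V').hom := by
    rw [Scheme.Hom.appIso_hom', Scheme.Hom.map_appLE, Scheme.Hom.app_eq_appLE, Scheme.Hom.appLE_map]
  exact ConcreteCategory.congr_hom h2 a

end Groth.L11.EllSimple
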