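import Groth.Agent.L11.RelHN.Ext
import Groth.Agent.L16.DevissageKilled
import Groth.Agent.L16.CohSupport
import Groth.Agent.L16.CohKernel
import Groth.Agent.L19.SupportPullback
import Groth.Agent.L21.Mod.Stalks

/-!
# Spreading an endomorphism as a correspondence
-/

set_option autoImplicit false
set_option linter.style.haveILetI false
set_option backward.isDefEq.respectTransparency false
set_option backward.isDefEq.respectTransparency.types false

universe u

open CategoryTheory CategoryTheory.Limits AlgebraicGeometry TopologicalSpace Opposite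

noncomputable section

namespace Groth.L11.EllSimple

variable {Z Y : Scheme.{u}} [IsLocallyNoetherian Y]

/-- A morphism of coherent modules becomes an isomorphism away from the supports of kernel and cokernel. -/
theorem isIso_pullback_of_support (g : Z ⟶ Y) [Flat g] {A B : Y.Modules} (hA : Coh.IsCoh A) (hB : Coh.IsCoh B)
    (p : A ⟶ B) (h : ∀ z, g z ∉ CohB1.support (kernel p) ∧ g z ∉ CohB1.support (cokernel p)) :
    IsIso ((Scheme.Modules.pullback g).map p) := by
  haveI : Coh.IsQCoh B := hB.1
  obtain ⟨hk, hc⟩ := Groth.L16.CohKernel.isCoh_kernel_cokernel hA hB p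
  haveI : (Scheme.Modules.pullback g).Additive :=
    (Scheme.Modules.pullbackPushforwardAdjunction g).left_adjoint_additive
  haveI := Groth.L29.RelPC.preservesFiniteLimits_pullback g
  have hz : ∀ M : Y.Modules, Coh.IsCoh M → (∀ z, g z ∉ CohB1.support M) →
      IsZero ((Scheme.Modules.pullback g).obj M) := fun M hM hM' => by
    haveI : Coh.IsQCoh M := hM.1
    rw [Groth.L21.Mod.isZero_iff_support_eq_empty, Groth.L19.SupportPullback.support_pullback g M hM.2]
    exact Set.eq_empty_iff_forall_notMem.2 hM'
  haveI : Mono ((Scheme.Modules.pullback g).map p) := Preadditive.mono_of_isZero_kernel _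
    ((hz _ hk fun z => (h z).1).of_iso (PreservesKernel.iso (Scheme.Modules.pullback g) p).symm)
  haveI : Epi ((Scheme.Modules.pullback g).map p) := Preadditive.epi_of_isZero_cokernel _
    ((hz _ hc fun z => (h z).2).of_iso (PreservesCokernel.iso (Scheme.Modules.pullback g) p).symm)
  exact isIso_of_mono_of_epi _

variable (h : Z ⟶ Y) [IsPreimmersion h] [Flat h] [QuasiCompact h] [QuasiSeparated h]

/-- An endomorphism after pullback along a flat preimmersion is given by a correspondence on an open. -/
theorem exists_correspondence {E : Y.Modules} (hE : Coh.IsCoh E)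
    (φ : (Scheme.Modules.pullback h).obj E ⟶ (Scheme.Modules.pullback h).obj E) :
    ∃ (G : Y.Modules) (p₁ p₂ : G ⟶ E) (W : Y.Opens), Coh.IsCoh G ∧ (∀ z, h z ∈ W) ∧
      IsIso ((Scheme.Modules.restrictFunctor W.ι).map p₁) ∧
      (Scheme.Modules.pullback h).map p₁ ≫ φ = (Scheme.Modules.pullback h).map p₂ := by
  let F := Scheme.Modules.pullback h
  let adj := Scheme.Modules.pullbackPushforwardAdjunction h
  haveI : F.Additive := adj.left_adjoint_additive
  haveI := Groth.L29.RelPC.preservesFiniteLimits_pullback h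
  haveI : Coh.IsQCoh E := hE.1
  haveI : Coh.IsQCoh (F.obj E) := Groth.L16.AffineBC.isQCoh_pullback h E
  haveI : Coh.IsQCoh ((Coh.push h).obj (F.obj E)) := Groth.L16.QcqsPush.isQCoh_push _ h
  let a : E ⟶ (Coh.push h).obj (F.obj E) := adj.homEquiv _ _ φ
  let b : E ⟶ (Coh.push h).obj (F.obj E) := adj.homEquiv _ _ (𝟙 (F.obj E))
  let δ : E ⊞ E ⟶ (Coh.push h).obj (F.obj E) := biprod.fst ≫ a - biprod.snd ≫ b
  have hEE : Coh.IsCoh (E ⊞ E) := Groth.L16.Devissage.isCoh_biprod hE hE
  have hG : Coh.IsCoh (kernel δ) := Groth.L16.CohSupport.isCoh_kernel hEE δ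
  let p₁ : kernel δ ⟶ E := kernel.ι δ ≫ biprod.fst
  let p₂ : kernel δ ⟶ E := kernel.ι δ ≫ biprod.snd
  have h12 : p₁ ≫ a = p₂ ≫ b := by
    have := kernel.condition δ
    simp only [δ, Preadditive.comp_sub] at this
    simpa [p₁, p₂, Category.assoc] using sub_eq_zero.1 this
  have hkey : F.map p₁ ≫ φ = F.map p₂ := by
    apply (adj.homEquiv _ _).injective
    rw [Adjunction.homEquiv_naturality_left, ← Category.comp_id (F.map p₂), Adjunction.homEquiv_naturality_left]
    exact h12
  -- the correspondence is a graph after pullback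
  haveI := Groth.L18.FlatClosureMod.isIso_counit_app h (F.obj E)
  have hδ : F.map δ ≫ adj.counit.app (F.obj E) = F.map biprod.fst ≫ φ - F.map biprod.snd := by
    have ha : F.map a ≫ adj.counit.app (F.obj E) = φ :=
      (adj.homEquiv_counit _ _ a).symm.trans ((adj.homEquiv _ _).symm_apply_apply _)
    have hb : F.map b ≫ adj.counit.app (F.obj E) = 𝟙 _ :=
      (adj.homEquiv_counit _ _ b).symm.trans ((adj.homEquiv _ _).symm_apply_apply _)
    rw [show F.map δ = F.map biprod.fst ≫ F.map a - F.map biprod.snd ≫ F.map b by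
      simp only [δ, Functor.map_sub, Functor.map_comp], Preadditive.sub_comp, Category.assoc, Category.assoc,
      ha, hb, Category.comp_id]
  let s : F.obj E ⟶ F.obj (E ⊞ E) := F.map biprod.inl + φ ≫ F.map biprod.inr
  have hs : s ≫ F.map δ = 0 := by
    rw [← cancel_mono (adj.counit.app (F.obj E)), Category.assoc, hδ, zero_comp]
    simp only [s, Preadditive.add_comp, Preadditive.comp_sub, Category.assoc, ← Functor.map_comp_assoc,
      ← Functor.map_comp, biprod.inl_fst, biprod.inl_snd, biprod.inr_fst, biprod.inr_snd,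
      CategoryTheory.Functor.map_id, Functor.map_zero, Category.id_comp, Category.comp_id, zero_comp, comp_zero]
    erw [Category.comp_id]
    abel
  let t : F.obj E ⟶ F.obj (kernel δ) := kernel.lift _ s hs ≫ (PreservesKernel.iso F δ).inv
  have ht : t ≫ F.map (kernel.ι δ) = s := by
    rw [Category.assoc, PreservesKernel.iso_inv_ι, kernel.lift_ι]
  haveI : Mono (F.map (kernel.ι δ)) := inferInstance
  haveI : Mono (F.map p₁) := by
    refine Preadditive.mono_of_cancel_zero _ fun {P} c hc => ?_
    have hc₂ : c ≫ F.map p₂ = 0 := by rw [← hkey, ← Category.assoc, hc, zero_comp]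
    refine zero_of_comp_mono (F.map (kernel.ι δ)) ?_
    have hfst : (c ≫ F.map (kernel.ι δ)) ≫ F.map biprod.fst = 0 := by
      rw [Category.assoc, ← Functor.map_comp]; exact hc
    have hsnd : (c ≫ F.map (kernel.ι δ)) ≫ F.map biprod.snd = 0 := by
      rw [Category.assoc, ← Functor.map_comp]; exact hc₂
    calc c ≫ F.map (kernel.ι δ) = (c ≫ F.map (kernel.ι δ)) ≫ F.map (biprod.fst ≫ biprod.inl + biprod.snd ≫ biprod.inr) := by
          rw [biprod.total, CategoryTheory.Functor.map_id, Category.comp_id]
      _ = 0 := by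
          rw [Functor.map_add, Preadditive.comp_add, Functor.map_comp, Functor.map_comp, ← Category.assoc,
            ← Category.assoc (c ≫ F.map (kernel.ι δ)), hfst, hsnd, zero_comp, zero_comp, add_zero]
  haveI : IsSplitEpi (F.map p₁) := ⟨⟨t, by
    rw [Functor.map_comp, ← Category.assoc, ht]
    simp only [s, Preadditive.add_comp, Category.assoc, ← Functor.map_comp, biprod.inl_fst, biprod.inr_fst,
      CategoryTheory.Functor.map_id, Functor.map_zero, comp_zero, add_zero]⟩⟩
  haveI : IsIso (F.map p₁) := isIso_of_mono_of_epi _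
  obtain ⟨hk, hc⟩ := Groth.L16.CohKernel.isCoh_kernel_cokernel hG hE p₁
  let C : Set Y := CohB1.support (kernel p₁) ∪ CohB1.support (cokernel p₁)
  have hC : IsClosed C := (Groth.L16.CohSupport.isClosed_support _ hk.2).union
    (Groth.L16.CohSupport.isClosed_support _ hc.2)
  let W : Y.Opens := ⟨Cᶜ, hC.isOpen_compl⟩
  refine ⟨kernel δ, p₁, p₂, W, hG, fun z => ?_, ?_, hkey⟩
  · have e1 : IsZero (F.obj (kernel p₁)) := (isZero_kernel_of_mono (F.map p₁)).of_iso (PreservesKernel.iso F p₁)
    have e2 : IsZero (F.obj (cokernel p₁)) := (isZero_cokernel_of_epi (F.map p₁)).of_iso (PreservesCokernel.iso F p₁)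
    haveI : Coh.IsQCoh (kernel p₁) := hk.1
    haveI : Coh.IsQCoh (cokernel p₁) := hc.1
    rw [Groth.L21.Mod.isZero_iff_support_eq_empty, Groth.L19.SupportPullback.support_pullback h _ hk.2] at e1
    rw [Groth.L21.Mod.isZero_iff_support_eq_empty, Groth.L19.SupportPullback.support_pullback h _ hc.2] at e2
    show h z ∉ C
    rintro (hz | hz)
    · exact (Set.eq_empty_iff_forall_notMem.1 e1) z hz
    · exact (Set.eq_empty_iff_forall_notMem.1 e2) z hz
  · haveI := isIso_pullback_of_support W.ι hG hE p₁ fun z =>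
      ⟨fun hz => z.2 (Or.inl hz), fun hz => z.2 (Or.inr hz)⟩
    exact (NatIso.isIso_map_iff (Scheme.Modules.restrictFunctorIsoPullback W.ι) p₁).2 inferInstance

end Groth.L11.EllSimple
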