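import Groth.Agent.L11.EllSimple.Fibre
import Groth.Agent.L11.EllSimple.Spread
import Groth.Agent.L11.EllSimple.Algebra
import Groth.Agent.L03.ShStab.Rank2Local
import Groth.Agent.L17.BC.PullSec

/-!
# Scalar endomorphisms of fibres
-/

set_option autoImplicit false
set_option linter.style.haveILetI false
set_option backward.isDefEq.respectTransparency false
set_option backward.isDefEq.respectTransparency.types false

universe u

open CategoryTheory CategoryTheory.Limits AlgebraicGeometry TopologicalSpace Opposite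

noncomputable section

namespace Groth.L11.EllSimple

open Groth.L18.Frame (rs ro pull pull_smul)
open Groth.L03.ShStab.Scalar (sc)
open Groth.L03.ShStab.Rank2 (sc_app)

variable {Y Z : Scheme.{u}}

/-- An endomorphism of a pullback is a scalar if it is one on pulled back sections. -/
theorem eq_sc_of_pull (h : Z ⟶ Y) (E : Y.Modules) [Coh.IsQCoh E]
    (φ : (Scheme.Modules.pullback h).obj E ⟶ (Scheme.Modules.pullback h).obj E) (r : Γ(Z, ⊤))
    (hcov : ∀ z, ∃ W : Y.Opens, IsAffineOpen W ∧ h z ∈ W ∧ ∀ m : Γ(E, W),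
      φ.app (h ⁻¹ᵁ W) (pull h E W m) = ro (le_top : h ⁻¹ᵁ W ≤ ⊤) r • pull h E W m) :
    φ = sc _ r := by
  let P := (Scheme.Modules.pullback h).obj E
  refine sub_eq_zero.1 ((Groth.L21.Mod.eq_zero_iff_stalk _).2 fun z => ?_)
  obtain ⟨W, hW, hzW, hm⟩ := hcov z
  letI : Algebra Γ(Y, W) (Z.presheaf.stalk z) :=
    ((Z.presheaf.germ (h ⁻¹ᵁ W) z hzW).hom.comp (h.appLE W (h ⁻¹ᵁ W) le_rfl).hom).toAlgebra
  letI : Module Γ(Y, W) (P.presheaf.stalk z) :=
    Module.compHom _ ((Z.presheaf.germ (h ⁻¹ᵁ W) z hzW).hom.comp (h.appLE W (h ⁻¹ᵁ W) le_rfl).hom)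
  haveI : IsScalarTower Γ(Y, W) (Z.presheaf.stalk z) (P.presheaf.stalk z) :=
    IsScalarTower.of_algebraMap_smul fun _ _ => rfl
  let g : Γ(E, W) →ₗ[Γ(Y, W)] P.presheaf.stalk z :=
    { toFun := fun m => P.presheaf.germ (h ⁻¹ᵁ W) z hzW (pull h E W m)
      map_add' := fun a b => (congrArg (P.presheaf.germ (h ⁻¹ᵁ W) z hzW) (map_add
        (((Scheme.Modules.pullbackPushforwardAdjunction h).unit.app E).app W).hom a b)).trans (map_add _ _ _)
      map_smul' := fun a m => by
        rw [pull_smul, Groth.L20.ModStalk.germ_smul, Scheme.Hom.app_eq_appLE]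
        rfl }
  have hg : IsBaseChange (Z.presheaf.stalk z) g :=
    Groth.L16.AffineBC.isBaseChange_germ_pull h E hW le_rfl hzW g fun m => by
      rw [Groth.L18.Frame.rs_self]; rfl
  ext q
  show (Groth.L21.Mod.stalkF Z z).map (φ - sc P r) q = 0
  let D := ((Groth.L00.Stk.F Z z).map (φ - sc P r)).hom
  suffices hD : ∀ q : P.presheaf.stalk z, D q = 0 from hD q
  intro q
  refine hg.inductionOn q (motive := fun q => D q = 0) (map_zero _) (fun m => ?_) (fun a q hq => ?_) (fun a b ha hb => ?_)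
  · refine (Groth.L21.Mod.stalkF_map_germ (φ - sc P r) (h ⁻¹ᵁ W) z hzW (pull h E W m)).trans ?_
    refine (congrArg (P.presheaf.germ (h ⁻¹ᵁ W) z hzW) ?_).trans (map_zero _)
    show φ.app (h ⁻¹ᵁ W) (pull h E W m) - (sc P r).app (h ⁻¹ᵁ W) (pull h E W m) = 0
    rw [hm, sc_app, sub_self]
  · refine (D.map_smul a q).trans ?_
    rw [hq]; exact smul_zero a
  · rw [map_add, ha, hb, add_zero]

/-- An isomorphism over an open is bijective on smaller opens. -/
theorem app_bijective_of_isIso_restrict {W : Y.Opens} {A B : Y.Modules} (p : A ⟶ B)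
    [IsIso ((Scheme.Modules.restrictFunctor W.ι).map p)] {O : Y.Opens} (hO : O ≤ W) :
    Function.Bijective (p.app O) := by
  have h1 : Function.Bijective (((Scheme.Modules.restrictFunctor W.ι).map p).app (W.ι ⁻¹ᵁ O)) :=
    ConcreteCategory.bijective_of_isIso _
  have h2 : Function.Bijective (p.app (W.ι ''ᵁ (W.ι ⁻¹ᵁ O))) := h1
  have e : W.ι ''ᵁ (W.ι ⁻¹ᵁ O) = O := by
    rw [Scheme.Hom.image_preimage_eq_opensRange_inf, Scheme.Opens.opensRange_ι, inf_eq_right.2 hO]
  rwa [e] at h2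

/-- Restriction to the preimage of an open over which a morphism is an isomorphism. -/
theorem isIso_restrict_pullback (g : Z ⟶ Y) {W : Y.Opens} {A B : Y.Modules} (p : A ⟶ B)
    [IsIso ((Scheme.Modules.restrictFunctor W.ι).map p)] :
    IsIso ((Scheme.Modules.restrictFunctor (g ⁻¹ᵁ W).ι).map ((Scheme.Modules.pullback g).map p)) := by
  haveI : IsIso ((Scheme.Modules.pullback W.ι).map p) :=
    (NatIso.isIso_map_iff (Scheme.Modules.restrictFunctorIsoPullback W.ι) p).1 inferInstance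
  haveI : IsIso ((Scheme.Modules.pullback W.ι ⋙ Scheme.Modules.pullback (g ∣_ W)).map p) :=
    inferInstanceAs (IsIso ((Scheme.Modules.pullback (g ∣_ W)).map ((Scheme.Modules.pullback W.ι).map p)))
  let α : Scheme.Modules.pullback W.ι ⋙ Scheme.Modules.pullback (g ∣_ W) ≅
      Scheme.Modules.pullback g ⋙ Scheme.Modules.restrictFunctor (g ⁻¹ᵁ W).ι :=
    Scheme.Modules.pullbackComp (g ∣_ W) W.ι ≪≫ Scheme.Modules.pullbackCongr (morphismRestrict_ι g W) ≪≫
      (Scheme.Modules.pullbackComp (g ⁻¹ᵁ W).ι g).symm ≪≫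
      Functor.isoWhiskerLeft (Scheme.Modules.pullback g) (Scheme.Modules.restrictFunctorIsoPullback (g ⁻¹ᵁ W).ι).symm
  exact (NatIso.isIso_map_iff α p).1 inferInstance

variable {S : Scheme.{u}} (f : Y ⟶ S) {V : S.Opens} (hV : IsAffineOpen V)

/-- If the fibre at a closed point has only scalar endomorphisms on the open of the correspondence,
the two projections are proportional modulo the point. -/
theorem exists_proportional_fibre {E G : Y.Modules} [Coh.IsQCoh E] (p₁ p₂ : G ⟶ E) {W : Y.Opens}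
    [IsIso ((Scheme.Modules.restrictFunctor W.ι).map p₁)] (s : S) (hs : s ∈ V) (hsc : IsClosed ({s} : Set S))
    (hm : (hV.primeIdealOf ⟨s, hs⟩).asIdeal.IsMaximal)
    (hsimple : ∀ φ : (Scheme.Modules.restrictFunctor (f.fiberι s ⁻¹ᵁ W).ι).obj (CohIII.fiberMod f E s) ⟶
        (Scheme.Modules.restrictFunctor (f.fiberι s ⁻¹ᵁ W).ι).obj (CohIII.fiberMod f E s),
      ∃ c : ↥(S.residueField s), ∀ (V' : ((f.fiberι s ⁻¹ᵁ W : (f.fiber s).Opens) : Scheme.{u}).Opens)
        (x : (CohIII.fiberMod f E s).val.obj (op ((f.fiberι s ⁻¹ᵁ W).ι ''ᵁ V'))),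
        (φ.app V') ((Scheme.Modules.restrictAppIso (f.fiberι s ⁻¹ᵁ W).ι (CohIII.fiberMod f E s) V').inv x) =
          (Scheme.Modules.restrictAppIso (f.fiberι s ⁻¹ᵁ W).ι (CohIII.fiberMod f E s) V').inv
            (((f.fiber s).ringCatSheaf.obj.map (homOfLE (le_top : (f.fiberι s ⁻¹ᵁ W).ι ''ᵁ V' ≤ ⊤)).op
              (Coh.toGlobal (f.fiberToSpecResidueField s) c)) • x)) :
    ∃ r : Γ(S, V), ∀ (O : Y.Opens) (_ : IsAffineOpen O) (_ : O ≤ W) (e : O ≤ f ⁻¹ᵁ V) (y : Γ(G, O)),
      letI := Module.compHom Γ(E, O) (f.appLE V O e).hom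
      p₂.app O y - r • p₁.app O y ∈
        (hV.primeIdealOf ⟨s, hs⟩).asIdeal • (⊤ : Submodule Γ(S, V) Γ(E, O)) := by
  let g := f.fiberι s
  let Us := g ⁻¹ᵁ W
  let R := Scheme.Modules.restrictFunctor Us.ι
  haveI : IsIso (R.map ((Scheme.Modules.pullback g).map p₁)) := isIso_restrict_pullback g p₁
  obtain ⟨c, hc⟩ := hsimple (inv (R.map ((Scheme.Modules.pullback g).map p₁)) ≫
    R.map ((Scheme.Modules.pullback g).map p₂))
  have key : ∀ (O : (f.fiber s).Opens) (_ : O ≤ Us) (z : Γ((Scheme.Modules.pullback g).obj G, O)),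
      ((Scheme.Modules.pullback g).map p₂).app O z =
        ro (le_top : O ≤ ⊤) (Coh.toGlobal (f.fiberToSpecResidueField s) c) •
          ((Scheme.Modules.pullback g).map p₁).app O z := by
    intro O hO
    obtain ⟨V', rfl⟩ : ∃ V' : Us.toScheme.Opens, Us.ι ''ᵁ V' = O := ⟨Us.ι ⁻¹ᵁ O, by
      rw [Scheme.Hom.image_preimage_eq_opensRange_inf, Scheme.Opens.opensRange_ι, inf_eq_right.2 hO]⟩
    intro z
    have h1 := hc V' (((Scheme.Modules.pullback g).map p₁).app _ z)
    refine Eq.trans ?_ h1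
    show ((R.map ((Scheme.Modules.pullback g).map p₂))).app V' z =
      (inv (R.map ((Scheme.Modules.pullback g).map p₁)) ≫ R.map ((Scheme.Modules.pullback g).map p₂)).app V'
        ((R.map ((Scheme.Modules.pullback g).map p₁)).app V' z)
    exact (congrArg (fun ψ => Scheme.Modules.Hom.app ψ V' z)
      (IsIso.hom_inv_id_assoc (R.map ((Scheme.Modules.pullback g).map p₁)) (R.map ((Scheme.Modules.pullback g).map p₂)))).symm
  obtain ⟨r, hr⟩ := evaluation_surjective hV s hs hm c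
  refine ⟨r, fun O hO hOW e y => ?_⟩
  letI := Module.compHom Γ(E, O) (f.appLE V O e).hom
  refine mem_of_pull_eq_zero f hV E hO e s hs hsc hm _ ?_
  show pull g E O (p₂.app O y - f.appLE V O e r • p₁.app O y) = 0
  have h3 := key (g ⁻¹ᵁ O) (fun x hx => hOW hx) (pull g G O y)
  rw [Groth.L17.BC.PullSec.map_pull, Groth.L17.BC.PullSec.map_pull] at h3
  have h5 : pull g E O (f.appLE V O e r • p₁.app O y) =
      ro (le_top : g ⁻¹ᵁ O ≤ ⊤) (Coh.toGlobal (f.fiberToSpecResidueField s) c) • pull g E O (p₁.app O y) := by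
    rw [pull_smul, app_fiberι f s hs O e r, hr]
  exact (map_sub (((Scheme.Modules.pullbackPushforwardAdjunction g).unit.app E).app O).hom _ _).trans
    (sub_eq_zero.2 (h3.trans h5.symm))

end Groth.L11.EllSimple
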